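import Groth.Agent.AlgStBasic.StQc
import Groth.Agent.AlgSpBasic.AffineMor
import Groth.Agent.AlgSpBasic.QComp
import Groth.Prelude.Def_StMod2

/-!
# Affine representable morphisms to algebraic spaces are cohomologically affine

For `E` etale over `M` with `E` affine, the pairs `(ξ, π ξ ⟶ etaOf E)` have a terminal object lying over
an affine scheme, so sections of pushforwards over `E` are the sections over that object.
-/

set_option autoImplicit false
set_option backward.isDefEq.respectTransparency false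
set_option backward.isDefEq.respectTransparency.types false

universe u

open CategoryTheory CategoryTheory.Limits AlgebraicGeometry Opposite
open Groth.StkBase

noncomputable section

namespace Groth.StModAffRep

variable {S : Scheme.{u}}

/-- The category of elements of a sheaf isomorphic to `h_W` has a final object over `W`. -/
theorem exists_terminal_elt {F : AlgSp.Sp S} {W : Over S} (i : (AlgSp.yon S).obj W ⟶ F) [IsIso i] :
    ∃ w : (AlgSt.ofSp F).obj, w.base = W ∧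
      (∀ a, Nonempty (a ⟶ w)) ∧ ∀ a (f g : a ⟶ w), f = g := by
  refine ⟨⟨W, i.hom.app (op W) ⟨𝟙 W⟩⟩, rfl, fun a => ?_, fun a f g => ?_⟩
  · refine ⟨eltHom ((inv i).hom.app (op a.base) a.sec).down ?_⟩
    have h1 := NatTrans.naturality_apply i.hom ((inv i).hom.app (op a.base) a.sec).down.op
      (⟨𝟙 W⟩ : ((AlgSp.yon S).obj W).obj.obj (op W))
    refine h1.symm.trans ?_
    have h2 : ((AlgSp.yon S).obj W).obj.map ((inv i).hom.app (op a.base) a.sec).down.op
        (⟨𝟙 W⟩ : ((AlgSp.yon S).obj W).obj.obj (op W)) = (inv i).hom.app (op a.base) a.sec :=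
      ULift.ext _ _ (Category.comp_id ((inv i).hom.app (op a.base) a.sec).down)
    rw [h2]
    exact congrArg (fun (t : F ⟶ F) => t.hom.app (op a.base) a.sec) (IsIso.inv_hom_id i)
  · refine elt_hom_ext_p ?_
    have hb : ∀ h : a ⟶ (⟨W, i.hom.app (op W) ⟨𝟙 W⟩⟩ : (AlgSt.ofSp F).obj),
        (inv i).hom.app (op a.base) a.sec = (⟨h.hom⟩ : ((AlgSp.yon S).obj W).obj.obj (op a.base)) := by
      intro h
      have h1 := h.map_sec
      have h2 := NatTrans.naturality_apply i.hom h.hom.op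
        (⟨𝟙 W⟩ : ((AlgSp.yon S).obj W).obj.obj (op W))
      have h3 : ((AlgSp.yon S).obj W).obj.map h.hom.op
          (⟨𝟙 W⟩ : ((AlgSp.yon S).obj W).obj.obj (op W)) = ⟨h.hom⟩ :=
        ULift.ext _ _ (Category.comp_id h.hom)
      rw [h3] at h2
      rw [← h1]
      refine (congrArg ((inv i).hom.app (op a.base)) h2.symm).trans ?_
      exact congrArg (fun (t : (AlgSp.yon S).obj W ⟶ (AlgSp.yon S).obj W) =>
        t.hom.app (op a.base) (⟨h.hom⟩ : ((AlgSp.yon S).obj W).obj.obj (op a.base)))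
        (IsIso.hom_inv_id i)
    exact congrArg ULift.down ((hb f).symm.trans (hb g))

variable {M : AlgSp.Sp S} {𝒳 : AlgSt.Cat S} (π : 𝒳 ⥤ᵇ AlgSt.ofSp M)

/-- The classifying functor of an object etale over `M`. -/
abbrev etaFun (E : AlgSp.EtOver M) : FibCat.overCat E.obj.left ⥤ᵇ AlgSt.ofSp M :=
  sectionFunctor M.obj (StMod.etaOf E).sec

/-- A morphism to `etaOf E` restricts the section along its underlying morphism of schemes. -/
theorem map_baseOver_etaOf {E : AlgSp.EtOver M} {ξ : 𝒳.obj} (α : π.obj ξ ⟶ StMod.etaOf E) :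
    M.obj.map (StMod.baseOver π ξ α).op (StMod.etaOf E).sec =
      M.obj.map (eqToHom (π.w_obj ξ).symm).op (π.obj ξ).sec := by
  refine Eq.trans ?_ (congrArg (M.obj.map (eqToHom (π.w_obj ξ).symm).op) α.map_sec)
  exact (map_op_comp M.obj _ _ _).symm

/-- The object of the fibre product attached to a pair `(ξ, π ξ ⟶ etaOf E)`. -/
def pairObj (E : AlgSp.EtOver M) (ξ : 𝒳.obj) (α : π.obj ξ ⟶ StMod.etaOf E) :
    (FibCat.fp (etaFun E) π).obj :=
  fpMk (Over.mk (StMod.baseOver π ξ α)) ξ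
    { hom := eltHom (eqToHom (π.w_obj ξ).symm) (map_baseOver_etaOf π α).symm
      inv := eltHom (eqToHom (π.w_obj ξ)) (by
        show M.obj.map _ (M.obj.map (StMod.baseOver π ξ α).op (StMod.etaOf E).sec) = _
        rw [map_baseOver_etaOf π α]
        refine (map_op_comp M.obj _ _ _).trans ?_
        exact map_op_id M.obj _ (eqToHom_trans _ _) _)
      hom_inv_id := elt_hom_ext_p (eqToHom_trans (π.w_obj ξ).symm (π.w_obj ξ))
      inv_hom_id := elt_hom_ext_p (eqToHom_trans (π.w_obj ξ) (π.w_obj ξ).symm) }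
    ⟨(π.w_obj ξ).symm, rfl⟩

/-- The morphism to `etaOf E` of an object of the fibre product. -/
def arrowOf (E : AlgSp.EtOver M) (z : (FibCat.fp (etaFun E) π).obj) :
    π.obj z.obj.snd ⟶ StMod.etaOf E :=
  z.obj.iso.inv ≫ eltHom (a := (etaFun E).obj z.obj.fst) z.obj.fst.hom rfl

theorem baseOver_arrowOf (E : AlgSp.EtOver M) (z : (FibCat.fp (etaFun E) π).obj) :
    StMod.baseOver π z.obj.snd (arrowOf π E z) = eqToHom (fp_p_snd z) ≫ z.obj.fst.hom := by
  show eqToHom _ ≫ (AlgSt.ofSp M).p.map (z.obj.iso.inv ≫ _) = _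
  rw [Functor.map_comp, (IsVert.inv (fp_isVert z)).map_eq]
  simp only [← Category.assoc, eqToHom_trans]
  rfl

/-- For an affine representable `π`, the pairs over an affine `E` have a final object over an affine scheme. -/
theorem exists_terminal_pair (hπ : AlgSt.RepByAlgSpWith AlgSp.IsAffineMor π) (E : AlgSp.EtOver M)
    (hE : IsAffine E.obj.left.left) :
    ∃ (ξ₀ : 𝒳.obj) (α₀ : π.obj ξ₀ ⟶ StMod.etaOf E), IsAffine (StMod.sch 𝒳 ξ₀) ∧
      (∀ ξ α, ∃ φ : ξ ⟶ ξ₀, π.map φ ≫ α₀ = α) ∧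
      ∀ ξ (φ φ' : ξ ⟶ ξ₀), π.map φ ≫ α₀ = π.map φ' ≫ α₀ → φ = φ' := by
  obtain ⟨F, e, he, hp⟩ := hπ E.obj.left (etaFun E)
  obtain ⟨W, i, fst, sq, hW⟩ := hp hE (𝟙 _)
  have : IsIso fst := sq.isIso_fst_of_isIso
  obtain ⟨w, hwb, hex, huniq⟩ := exists_terminal_elt fst
  have := isEquivalence_of_isEquivOver he
  let z := e.obj w
  have hbase : 𝒳.p.obj z.obj.snd = W := (fp_p_snd z).trans ((e.w_obj w).trans hwb)
  have hzex : ∀ a, Nonempty (a ⟶ z) := fun a => by
    obtain ⟨f⟩ := hex (e.toFunctor.objPreimage a)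
    exact ⟨(e.toFunctor.objObjPreimageIso a).inv ≫ e.toFunctor.map f⟩
  have hzuniq : ∀ a (f g : a ⟶ z), f = g := fun a f g => by
    rw [← cancel_epi (e.toFunctor.objObjPreimageIso a).hom]
    obtain ⟨f', hf⟩ := e.toFunctor.map_surjective ((e.toFunctor.objObjPreimageIso a).hom ≫ f)
    obtain ⟨g', hg⟩ := e.toFunctor.map_surjective ((e.toFunctor.objObjPreimageIso a).hom ≫ g)
    rw [← hf, ← hg, huniq _ f' g']
  refine ⟨z.obj.snd, arrowOf π E z, ?_, fun ξ α => ?_, fun ξ φ φ' h => ?_⟩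
  · show IsAffine (𝒳.p.obj z.obj.snd).left
    exact hbase ▸ hW
  · obtain ⟨f⟩ := hzex (pairObj π E ξ α)
    refine ⟨f.hom.snd, ?_⟩
    have h1 : 𝒳.p.map f.hom.snd ≫ StMod.baseOver π z.obj.snd (arrowOf π E z) =
        StMod.baseOver π ξ α := by
      rw [baseOver_arrowOf]
      erw [fp_map_snd f]
      simp only [Category.assoc, eqToHom_trans_assoc, eqToHom_refl, Category.id_comp]
      exact Eq.trans (congrArg (eqToHom (fp_p_snd (pairObj π E ξ α)) ≫ ·) (Over.w f.hom.fst))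
        (Category.id_comp _)
    rw [StMod.map_comp_baseOver] at h1
    exact elt_hom_ext_p ((cancel_epi (eqToHom (π.w_obj ξ).symm)).1 h1)
  · have key : ∀ ψ : ξ ⟶ z.obj.snd, π.map ψ ≫ arrowOf π E z = π.map φ ≫ arrowOf π E z →
        ∃ f : pairObj π E ξ (π.map φ ≫ arrowOf π E z) ⟶ z, f.hom.snd = ψ := by
      intro ψ hψ
      refine ⟨fpHom (Over.homMk (𝒳.p.map ψ ≫ eqToHom (fp_p_snd z)) ?_) ψ ?_, rfl⟩
      · show (𝒳.p.map ψ ≫ eqToHom (fp_p_snd z)) ≫ z.obj.fst.hom = StMod.baseOver π ξ (π.map φ ≫ arrowOf π E z)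
        rw [Category.assoc, ← baseOver_arrowOf, StMod.map_comp_baseOver, hψ]
      · refine elt_hom_ext_p ?_
        rw [Functor.map_comp, Functor.map_comp, (fp_isVert z).map_eq, map_map π ψ,
          (fp_isVert (pairObj π E ξ (π.map φ ≫ arrowOf π E z))).map_eq]
        show (𝒳.p.map ψ ≫ eqToHom (fp_p_snd z)) ≫ eqToHom _ =
          eqToHom _ ≫ eqToHom _ ≫ 𝒳.p.map ψ ≫ eqToHom _
        simp only [Category.assoc, eqToHom_trans, eqToHom_trans_assoc, eqToHom_refl, Category.id_comp]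
    obtain ⟨f, hf⟩ := key φ rfl
    obtain ⟨g, hg⟩ := key φ' h.symm
    rw [← hf, ← hg, hzuniq _ f g]

/-- Affine representable morphisms to a sheaf are cohomologically affine. -/
theorem isCohAffine_of_repWith_affine (hπ : AlgSt.RepByAlgSpWith AlgSp.IsAffineMor π) :
    StMod.IsCohAffine π := by
  intro F G u hu E hE t
  obtain ⟨ξ₀, α₀, haff, hex, huniq⟩ := exists_terminal_pair π hπ E hE
  choose φ hφ using hex
  obtain ⟨y, hy⟩ := hu ξ₀ haff (t.1 ξ₀ α₀)
  refine ⟨⟨fun ξ α => F.obj.mapTop (φ ξ α) y, fun ξ' ξ ψ α => ?_⟩, ?_⟩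
  · rw [← StMod.Mod.mapTop_comp]
    congr 1
    refine huniq _ _ _ ?_
    rw [hφ, Functor.map_comp, Category.assoc, hφ]
  · refine StMod.Mod.RelSect.ext _ _ _ fun ξ α => ?_
    show (u.hom.app ξ).app ⊤ (F.obj.mapTop (φ ξ α) y) = t.1 ξ α
    rw [← StMod.Mod.mapTop_app, hy, t.2 (φ ξ α) α₀, hφ]

end Groth.StModAffRep
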